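import Mathlib

/-!
# Bounding the automorphism group of a graph by a refinement certificate

A graph on `Fin n` is given by neighbour lists.  Sets of vertices are bit masks; a rule derives from
earlier sets `A`, `B` the set of vertices of `A` with exactly `m` neighbours in `B`.  Sets derived
from singletons `{b}` are invariant under every automorphism fixing those points.
-/

set_option autoImplicit false

namespace Cfsg.Agent.CommGraph

/-- Adjacency from neighbour lists. -/
def Adj (nb : List (List ℕ)) {n : ℕ} (i j : Fin n) : Prop := (j : ℕ) ∈ nb.getD i []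

instance instDecidableAdj (nb : List (List ℕ)) {n : ℕ} (i j : Fin n) : Decidable (Adj nb i j) :=
  inferInstanceAs (Decidable ((j : ℕ) ∈ nb.getD i []))

/-- Automorphisms of the graph. -/
def autAdj (nb : List (List ℕ)) (n : ℕ) : Subgroup (Equiv.Perm (Fin n)) where
  carrier := {σ | ∀ i j, Adj nb (σ i) (σ j) ↔ Adj nb i j}
  one_mem' := fun _ _ => Iff.rfl
  mul_mem' := fun {σ τ} hσ hτ i j => (hσ (τ i) (τ j)).trans (hτ i j)
  inv_mem' := fun {σ} hσ i j => by
    simpa using (hσ (σ⁻¹ i) (σ⁻¹ j)).symm

/-- Neighbour lists are duplicate free and in range. -/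
def nbOK (nb : List (List ℕ)) (n : ℕ) : Bool :=
  (List.range n).all fun i => (nb.getD i []).Nodup && (nb.getD i []).all (fun j => decide (j < n))

/-- A refinement rule `(mask, a, b, m)`. -/
abbrev Rule : Type := ℕ × ℕ × ℕ × ℕ

/-- The starting masks. -/
def seedMasks (n : ℕ) (seeds : List ℕ) : List ℕ := (2 ^ n - 1) :: seeds.map (2 ^ ·)

/-- All masks. -/
def allMasks (n : ℕ) (seeds : List ℕ) (rules : List Rule) : List ℕ :=
  seedMasks n seeds ++ rules.map (·.1)

/-- The check of the rules. -/
def rulesOK (nb : List (List ℕ)) (n : ℕ) (seeds : List ℕ) (rules : List Rule) : Bool :=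
  let sets := allMasks n seeds rules
  (List.range rules.length).all fun i =>
    let r := rules.getD i (0, 0, 0, 0)
    let A := sets.getD r.2.1 0
    let B := sets.getD r.2.2.1 0
    decide (r.2.1 < seeds.length + 1 + i) && decide (r.2.2.1 < seeds.length + 1 + i) &&
      (List.range n).all fun v =>
        r.1.testBit v == (A.testBit v && ((nb.getD v []).filter fun u => B.testBit u).length == r.2.2.2)

variable {nb : List (List ℕ)} {n : ℕ}

theorem length_filter_eq (h : nbOK nb n = true) (v : Fin n) (B : ℕ) :
    ((nb.getD v []).filter fun u => B.testBit u).length =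
      (Finset.univ.filter fun u : Fin n => Adj nb v u ∧ B.testBit u = true).card := by
  simp only [nbOK, List.all_eq_true, Bool.and_eq_true, decide_eq_true_eq, List.mem_range] at h
  obtain ⟨hnd, hlt⟩ := h v v.isLt
  rw [← List.toFinset_card_of_nodup (hnd.filter _),
    ← Finset.card_map Fin.valEmbedding (s := Finset.univ.filter _)]
  congr 1
  ext u
  rw [List.mem_toFinset, List.mem_filter, Finset.mem_map]
  constructor
  · rintro ⟨hu, hb⟩
    exact ⟨⟨u, hlt u hu⟩, Finset.mem_filter.2 ⟨Finset.mem_univ _, hu, hb⟩, rfl⟩
  · rintro ⟨w, hw, rfl⟩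
    exact (Finset.mem_filter.1 hw).2

/-- Masks derived from seeds are invariant. -/
theorem invariant_allMasks (h : nbOK nb n = true) {seeds : List ℕ} {rules : List Rule}
    (hr : rulesOK nb n seeds rules = true) {σ : Equiv.Perm (Fin n)} (hσ : σ ∈ autAdj nb n)
    (hfix : ∀ v : Fin n, (v : ℕ) ∈ seeds → σ v = v) (i : ℕ) (v : Fin n) :
    ((allMasks n seeds rules).getD i 0).testBit (σ v) =
      ((allMasks n seeds rules).getD i 0).testBit v := by
  induction i using Nat.strong_induction_on generalizing v with
  | _ i ih =>
  have hlen : (seedMasks n seeds).length = seeds.length + 1 := by simp [seedMasks]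
  rcases lt_or_ge i (seeds.length + 1) with hi | hi
  · rw [allMasks, List.getD_append _ _ _ _ (by omega)]
    rcases i with _ | i
    · simp [seedMasks]
    · simp only [seedMasks, List.getD_cons_succ]
      rw [List.getD_eq_getElem _ _ (by simp; omega), List.getElem_map, Nat.testBit_two_pow,
        Nat.testBit_two_pow]
      congr 1
      apply propext
      constructor
      · intro he
        have := hfix (σ v) (he ▸ List.getElem_mem (by omega))
        rw [σ.injective this] at he
        exact he
      · intro he
        rw [hfix v (he ▸ List.getElem_mem (by omega))]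
        exact he
  · rw [allMasks, List.getD_append_right _ _ _ _ (by omega), hlen]
    rcases lt_or_ge (i - (seeds.length + 1)) rules.length with hj | hj
    · simp only [rulesOK, List.all_eq_true, List.mem_range, Bool.and_eq_true, decide_eq_true_eq,
        beq_iff_eq] at hr
      obtain ⟨⟨ha, hb⟩, hv⟩ := hr _ hj
      rw [show (rules.map (·.1)).getD (i - (seeds.length + 1)) 0 =
          (rules.getD (i - (seeds.length + 1)) (0, 0, 0, 0)).1 by
        rw [List.getD_eq_getElem _ _ (by simpa using hj), List.getD_eq_getElem _ _ hj, List.getElem_map]]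
      rw [hv _ (σ v).isLt, hv _ v.isLt, ih _ (by omega), length_filter_eq h, length_filter_eq h]
      congr 2
      refine (Finset.card_bij (fun u _ => σ u) ?_ (fun a _ b _ hab => σ.injective hab) ?_).symm
      · intro u hu
        simp only [Finset.mem_filter, Finset.mem_univ, true_and] at hu ⊢
        exact ⟨(hσ v u).2 hu.1, (ih _ (by omega) u).trans hu.2⟩
      · intro w hw
        simp only [Finset.mem_filter, Finset.mem_univ, true_and] at hw
        refine ⟨σ.symm w, ?_, σ.apply_symm_apply w⟩
        simp only [Finset.mem_filter, Finset.mem_univ, true_and]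
        exact ⟨(hσ v (σ.symm w)).1 (by simpa using hw.1),
          by rw [← ih _ (by omega) (σ.symm w), σ.apply_symm_apply]; exact hw.2⟩
    · rw [List.getD_eq_default _ _ (by simpa using hj)]
      simp

/-- One step of the orbit bound. -/
theorem card_le_step {α : Type*} [Finite α] (A : Subgroup (Equiv.Perm α)) (x : α) (S : Finset α)
    (h : ∀ σ ∈ A, σ x ∈ S) {b : ℕ}
    (hb : Nat.card ↥(A ⊓ MulAction.stabilizer (Equiv.Perm α) x) ≤ b) :
    Nat.card A ≤ S.card * b := by
  have e : Nat.card (MulAction.stabilizer A x) =
      Nat.card ↥(A ⊓ MulAction.stabilizer (Equiv.Perm α) x) :=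
    Nat.card_congr
      { toFun := fun s => ⟨((s : A) : Equiv.Perm α), (s : A).2, s.2⟩
        invFun := fun s => ⟨⟨s.1, s.2.1⟩, s.2.2⟩
        left_inv := fun _ => rfl
        right_inv := fun _ => rfl }
  rw [← Subgroup.index_mul_card (MulAction.stabilizer A x), MulAction.index_stabilizer, e]
  refine Nat.mul_le_mul ?_ hb
  rw [← Set.ncard_coe_finset]
  refine Set.ncard_le_ncard ?_ (Finset.finite_toSet S)
  rintro y ⟨σ, rfl⟩
  exact h σ σ.2

/-- The singleton certificate. -/
def singlesOK (n : ℕ) (sets : List ℕ) (singles : List ℕ) : Bool :=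
  (List.range n).all fun v => sets.getD (singles.getD v 0) 0 == 2 ^ v

/-- The bound `n * d * k` on the automorphism group. -/
theorem card_autAdj_le (h : nbOK nb n = true) (b0 b1 b2 : Fin n) (hb1 : Adj nb b0 b1)
    {d : ℕ} (hd : (List.range n).all (fun i => decide ((nb.getD i []).length ≤ d)) = true)
    {rules : List Rule} (hr : rulesOK nb n [b0.val, b1.val] rules = true) (t k : ℕ)
    (ht : ((allMasks n [b0.val, b1.val] rules).getD t 0).testBit b2 = true)
    (hk : ((List.range n).filter fun v =>
      ((allMasks n [b0.val, b1.val] rules).getD t 0).testBit v).length ≤ k)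
    {rules' : List Rule} (hr' : rulesOK nb n [b0.val, b1.val, b2.val] rules' = true)
    {singles : List ℕ}
    (hs : singlesOK n (allMasks n [b0.val, b1.val, b2.val] rules') singles = true) :
    Nat.card (autAdj nb n) ≤ n * (d * k) := by
  classical
  set A0 := autAdj nb n ⊓ MulAction.stabilizer (Equiv.Perm (Fin n)) b0 with hA0
  set A1 := A0 ⊓ MulAction.stabilizer (Equiv.Perm (Fin n)) b1 with hA1
  set A2 := A1 ⊓ MulAction.stabilizer (Equiv.Perm (Fin n)) b2 with hA2
  have h2 : Nat.card A2 ≤ 1 := by
    rw [Finite.card_le_one_iff_subsingleton]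
    refine ⟨fun a b => ?_⟩
    suffices ∀ σ ∈ A2, σ = 1 from Subtype.ext ((this _ a.2).trans (this _ b.2).symm)
    rintro σ ⟨⟨⟨hσ, hs0⟩, hs1⟩, hs2⟩
    refine Equiv.ext fun v => ?_
    have hinv := invariant_allMasks h hr' hσ (fun w hw => by
      simp only [List.mem_cons, List.not_mem_nil, or_false] at hw
      rcases hw with hw | hw | hw <;> obtain rfl := Fin.ext hw
      exacts [hs0, hs1, hs2]) (singles.getD v 0) v
    simp only [singlesOK, List.all_eq_true, List.mem_range, beq_iff_eq] at hs
    rw [hs v v.isLt, Nat.testBit_two_pow, Nat.testBit_two_pow] at hinv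
    simp only [decide_true, decide_eq_true_eq] at hinv
    exact (Fin.ext hinv).symm
  have h1 : Nat.card A1 ≤ k * 1 := by
    refine (card_le_step A1 b2 (Finset.univ.filter fun v : Fin n =>
      ((allMasks n [b0.val, b1.val] rules).getD t 0).testBit v = true) ?_ h2).trans
        (Nat.mul_le_mul_right _ ?_)
    · rintro σ ⟨⟨hσ, hs0⟩, hs1⟩
      simp only [Finset.mem_filter, Finset.mem_univ, true_and]
      rw [invariant_allMasks h hr hσ (fun w hw => by
        simp only [List.mem_cons, List.not_mem_nil, or_false] at hw
        rcases hw with hw | hw <;> obtain rfl := Fin.ext hw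
        exacts [hs0, hs1]), ht]
    · refine le_trans ?_ hk
      rw [← List.toFinset_card_of_nodup (List.nodup_range.filter _),
        ← Finset.card_map Fin.valEmbedding]
      refine Finset.card_le_card fun u hu => ?_
      simp only [Finset.mem_map, Finset.mem_filter, Finset.mem_univ, true_and,
        Fin.valEmbedding_apply] at hu
      obtain ⟨w, hw, rfl⟩ := hu
      simpa using hw
  have h0 : Nat.card A0 ≤ d * k := by
    refine (card_le_step A0 b1 (Finset.univ.filter fun v => Adj nb b0 v) ?_ h1).trans ?_
    · rintro σ ⟨hσ, hs0⟩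
      simp only [Finset.mem_filter, Finset.mem_univ, true_and]
      have hb := (hσ b0 b1).2 hb1
      rwa [show σ b0 = b0 from hs0] at hb
    · rw [mul_one]
      refine Nat.mul_le_mul_right _ ?_
      simp only [List.all_eq_true, List.mem_range, decide_eq_true_eq] at hd
      refine le_trans ?_ (hd b0 b0.isLt)
      refine le_trans ?_ (List.toFinset_card_le _)
      rw [← Finset.card_map Fin.valEmbedding]
      refine Finset.card_le_card fun u hu => ?_
      simp only [Finset.mem_map, Finset.mem_filter, Finset.mem_univ, true_and,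
        Fin.valEmbedding_apply] at hu
      obtain ⟨w, hw, rfl⟩ := hu
      exact List.mem_toFinset.2 hw
  refine (card_le_step (autAdj nb n) b0 Finset.univ (fun σ _ => Finset.mem_univ _) h0).trans ?_
  simp

end Cfsg.Agent.CommGraph
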