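import Cfsg.Agent.Lib.CommGraph.Recognition
import Cfsg.Agent.Lib.CommGraph.L33Data
import Cfsg.Agent.Lib.GL.Basic
import Cfsg.Agent.Lib.GL.Simple

/-!
# `SL₃(3)`: matrices as numbers, and recognition by the commuting graph
-/

set_option autoImplicit false
set_option maxHeartbeats 400000

open scoped MatrixGroups

namespace Cfsg.Agent.CommGraph.L33

/-- A matrix as nine ternary digits. -/
def pack9 (f : ℕ → ℕ → ℕ) : ℕ :=
  f 0 0 + 3 * (f 0 1 + 3 * (f 0 2 + 3 * (f 1 0 + 3 * (f 1 1 + 3 * (f 1 2 + 3 * (f 2 0 +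
    3 * (f 2 1 + 3 * f 2 2)))))))

/-- The digit in position `(i, j)`. -/
def dig (a i j : ℕ) : ℕ := a / 3 ^ (3 * i + j) % 3

/-- The product of coded matrices. -/
def mul3 (a b : ℕ) : ℕ :=
  pack9 fun i j => (dig a i 0 * dig b 0 j + dig a i 1 * dig b 1 j + dig a i 2 * dig b 2 j) % 3

/-- The determinant of a coded matrix. -/
def det3 (a : ℕ) : ℕ :=
  (dig a 0 0 * dig a 1 1 * dig a 2 2 + dig a 0 1 * dig a 1 2 * dig a 2 0 +
    dig a 0 2 * dig a 1 0 * dig a 2 1 + 2 * (dig a 0 0 * dig a 1 2 * dig a 2 1 +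
    dig a 0 1 * dig a 1 0 * dig a 2 2 + dig a 0 2 * dig a 1 1 * dig a 2 0)) % 3

/-- The code of an element of `SL₃(3)`. -/
def enc (g : SL(3, ZMod 3)) : ℕ :=
  pack9 fun i j => ((g : Matrix (Fin 3) (Fin 3) (ZMod 3)) (Fin.ofNat 3 i) (Fin.ofNat 3 j)).val

theorem pack9_lt {f : ℕ → ℕ → ℕ} (hf : ∀ i j, f i j < 3) : pack9 f < 19683 := by
  have h00 := hf 0 0; have h01 := hf 0 1; have h02 := hf 0 2
  have h10 := hf 1 0; have h11 := hf 1 1; have h12 := hf 1 2
  have h20 := hf 2 0; have h21 := hf 2 1; have h22 := hf 2 2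
  unfold pack9
  omega

theorem dig_pack9 {f : ℕ → ℕ → ℕ} (hf : ∀ i j, f i j < 3) {i j : ℕ} (hi : i < 3) (hj : j < 3) :
    dig (pack9 f) i j = f i j := by
  have h00 := hf 0 0; have h01 := hf 0 1; have h02 := hf 0 2
  have h10 := hf 1 0; have h11 := hf 1 1; have h12 := hf 1 2
  have h20 := hf 2 0; have h21 := hf 2 1; have h22 := hf 2 2
  interval_cases i <;> interval_cases j <;> (simp only [dig, pack9]; norm_num; omega)

theorem dig_enc (g : SL(3, ZMod 3)) (i j : Fin 3) :
    dig (enc g) i j = ((g : Matrix (Fin 3) (Fin 3) (ZMod 3)) i j).val := by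
  rw [enc, dig_pack9 (fun _ _ => ZMod.val_lt _) i.isLt j.isLt, Fin.ofNat_val_eq_self,
    Fin.ofNat_val_eq_self]

theorem enc_injective : Function.Injective enc := fun g h e => by
  ext i j
  exact ZMod.val_injective 3 (by rw [← dig_enc, ← dig_enc, e])

theorem pack9_congr {f f' : ℕ → ℕ → ℕ} (h : ∀ i j : Fin 3, f i j = f' i j) : pack9 f = pack9 f' := by
  have h00 : f 0 0 = f' 0 0 := h 0 0
  have h01 : f 0 1 = f' 0 1 := h 0 1
  have h02 : f 0 2 = f' 0 2 := h 0 2
  have h10 : f 1 0 = f' 1 0 := h 1 0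
  have h11 : f 1 1 = f' 1 1 := h 1 1
  have h12 : f 1 2 = f' 1 2 := h 1 2
  have h20 : f 2 0 = f' 2 0 := h 2 0
  have h21 : f 2 1 = f' 2 1 := h 2 1
  have h22 : f 2 2 = f' 2 2 := h 2 2
  simp [pack9, h00, h01, h02, h10, h11, h12, h20, h21, h22]

theorem dig_cast (g : SL(3, ZMod 3)) (x y : Fin 3) :
    ((dig (enc g) x y : ℕ) : ZMod 3) = (g : Matrix (Fin 3) (Fin 3) (ZMod 3)) x y := by
  rw [dig_enc, ZMod.natCast_zmod_val]

theorem enc_mul (a b : SL(3, ZMod 3)) : enc (a * b) = mul3 (enc a) (enc b) := by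
  refine pack9_congr fun i j => ?_
  rw [← ZMod.val_natCast]
  refine congrArg ZMod.val ?_
  rw [Fin.ofNat_val_eq_self, Fin.ofNat_val_eq_self, Matrix.SpecialLinearGroup.coe_mul, Matrix.mul_apply,
    Fin.sum_univ_three, ← dig_cast a i 0, ← dig_cast a i 1, ← dig_cast a i 2, ← dig_cast b 0 j,
    ← dig_cast b 1 j, ← dig_cast b 2 j]
  push_cast
  rfl

/-- All codes. -/
def allCodes : List ℕ :=
  (List.range 27).flatMap fun u => (List.range 27).flatMap fun v =>
    ((List.range 27).map fun w => 729 * u + 27 * v + w).filter fun a => det3 a == 1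

theorem enc_mem (g : SL(3, ZMod 3)) : enc g ∈ allCodes := by
  have hlt : enc g < 19683 := pack9_lt fun _ _ => ZMod.val_lt _
  refine List.mem_flatMap.2 ⟨enc g / 729, List.mem_range.2 (by omega), List.mem_flatMap.2
    ⟨enc g / 27 % 27, List.mem_range.2 (by omega), List.mem_filter.2 ⟨List.mem_map.2
      ⟨enc g % 27, List.mem_range.2 (by omega), by omega⟩, ?_⟩⟩⟩
  rw [beq_iff_eq]
  have h3 : (3 : ZMod 3) = 0 := rfl
  have h : ((det3 (enc g) : ℕ) : ZMod 3) = 1 := by
    rw [det3, ZMod.natCast_mod, ← g.2, Matrix.det_fin_three, ← dig_cast g 0 0, ← dig_cast g 0 1,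
      ← dig_cast g 0 2, ← dig_cast g 1 0, ← dig_cast g 1 1, ← dig_cast g 1 2, ← dig_cast g 2 0,
      ← dig_cast g 2 1, ← dig_cast g 2 2]
    simp only [Fin.val_zero, Fin.val_one, Fin.val_two]
    push_cast
    linear_combination ((dig (enc g) 0 0 : ZMod 3) * dig (enc g) 1 2 * dig (enc g) 2 1 +
      (dig (enc g) 0 1 : ZMod 3) * dig (enc g) 1 0 * dig (enc g) 2 2 +
      (dig (enc g) 0 2 : ZMod 3) * dig (enc g) 1 1 * dig (enc g) 2 0) * h3
  have h' := congrArg ZMod.val h
  rw [ZMod.val_natCast, ZMod.val_one] at h'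
  unfold det3 at h' ⊢
  omega

/-- The six elementary generators, in the order used by the data. -/
def gens : List SL(3, ZMod 3) :=
  [Matrix.SpecialLinearGroup.transvection (show (0 : Fin 3) ≠ 1 by decide) 1,
    Matrix.SpecialLinearGroup.transvection (show (0 : Fin 3) ≠ 2 by decide) 1,
    Matrix.SpecialLinearGroup.transvection (show (1 : Fin 3) ≠ 0 by decide) 1,
    Matrix.SpecialLinearGroup.transvection (show (1 : Fin 3) ≠ 2 by decide) 1,
    Matrix.SpecialLinearGroup.transvection (show (2 : Fin 3) ≠ 0 by decide) 1,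
    Matrix.SpecialLinearGroup.transvection (show (2 : Fin 3) ≠ 1 by decide) 1]

theorem closure_gens : Subgroup.closure {g | g ∈ gens} = ⊤ := by
  refine GL.SL_eq_top_of_transvection_mem fun i j hij c => ?_
  have h1 : Matrix.SpecialLinearGroup.transvection hij (1 : ZMod 3) ∈
      Subgroup.closure {g | g ∈ gens} := by
    refine Subgroup.subset_closure ?_
    fin_cases i <;> fin_cases j <;> first | exact absurd rfl hij | simp [gens]
  have hadd : ∀ m : ℕ, ((Matrix.SpecialLinearGroup.transvection hij (1 : ZMod 3)) ^ m : SL(3, ZMod 3)) =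
      Matrix.SpecialLinearGroup.transvection hij (m : ZMod 3) := by
    intro m
    induction m with
    | zero =>
      rw [pow_zero]
      exact Subtype.ext (by
        change (1 : Matrix (Fin 3) (Fin 3) (ZMod 3)) = Matrix.transvection i j ((0 : ℕ) : ZMod 3)
        simp)
    | succ m ih =>
      rw [pow_succ, ih]
      exact Subtype.ext (by
        change Matrix.transvection i j (m : ZMod 3) * Matrix.transvection i j 1 =
          Matrix.transvection i j ((m + 1 : ℕ) : ZMod 3)
        rw [Matrix.transvection_mul_transvection_same _ _ hij, Nat.cast_succ])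
  have hc : Matrix.SpecialLinearGroup.transvection hij c =
      Matrix.SpecialLinearGroup.transvection hij (1 : ZMod 3) ^ c.val := by
    rw [hadd, ZMod.natCast_zmod_val]
  rw [hc]
  exact Subgroup.pow_mem _ h1 _

/-- The codes of the generators and of their inverses. -/
def codes : List (ℕ × ℕ) :=
  [(0x19f6, 0x19f9), (0x19fc, 0x1a05), (0x1a0e, 0x1a29), (0x1ae6, 0x1bd9), (0x1ccc, 0x1fa5),
    (0x227e, 0x2b09)]

theorem map_enc_gens : gens.map (fun g => (enc g, enc (g * g))) = codes := by decide +kernel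

theorem mem_codes {g : SL(3, ZMod 3)} (hg : g ∈ gens) : (enc g, enc (g * g)) ∈ codes := by
  rw [← map_enc_gens]
  exact List.mem_map_of_mem (f := fun g => (enc g, enc (g * g))) hg

theorem enc_one : enc 1 = 6643 := by decide +kernel

theorem codes_check : (codes.all fun q => mul3 q.1 q.2 == 6643) = true := by decide +kernel

theorem inv_gens (g : SL(3, ZMod 3)) (hg : g ∈ gens) : enc g⁻¹ = enc (g * g) := by
  have h := List.all_eq_true.1 codes_check (enc g, enc (g * g)) (mem_codes hg)
  have h2 : mul3 (enc g) (enc (g * g)) = 6643 := eq_of_beq h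
  have h3 : enc (g * (g * g)) = enc 1 := (enc_mul g (g * g)).trans (h2.trans enc_one.symm)
  have h4 : g⁻¹ = g * g := inv_eq_of_mul_eq_one_right (enc_injective h3)
  exact congrArg enc h4

/-- An element of order eight. -/
def c8 : SL(3, ZMod 3) := gens.getD 0 1 * gens.getD 3 1 * gens.getD 4 1

theorem enc_c8 : enc c8 = 7655 := by decide +kernel

/-- Iterated product of codes. -/
def pow3 : ℕ → ℕ
  | 0 => 6643
  | m + 1 => mul3 (pow3 m) 7655

theorem enc_pow (m : ℕ) : enc (c8 ^ m) = pow3 m := by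
  induction m with
  | zero => rw [pow_zero, enc_one]; rfl
  | succ m ih => rw [pow_succ, enc_mul, ih, enc_c8]; rfl

theorem cent_bound : ([1, 2, 3, 5, 6, 7].all fun j =>
    decide ((allCodes.filter fun r => mul3 (pow3 j) r == mul3 r (pow3 j)).length < 48)) = true := by
  decide +kernel

theorem cent_self : (allCodes.filter fun r => mul3 7655 r == mul3 r 7655).length ≤ 8 := by
  decide +kernel

theorem closed_check : (codes.all fun q => L33Data.cls.all fun l =>
    L33Data.cls.contains (mul3 (mul3 q.1 l) q.2)) = true := by decide +kernel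

theorem steps_check : stepsOK mul3 codes L33Data.cls L33Data.steps = true := by decide +kernel

theorem adj_check : ((List.range 117).all fun i => (List.range 117).all fun j =>
    decide (j ∈ L33Data.nbrs.getD i []) == (i != j &&
      mul3 (L33Data.cls.getD i 0) (L33Data.cls.getD j 0) ==
        mul3 (L33Data.cls.getD j 0) (L33Data.cls.getD i 0))) = true := by decide +kernel

theorem rules2_check : rulesOK L33Data.nbrs 117 [0, 21] L33Data.rules2 = true := by decide +kernel

theorem rules3_check : rulesOK L33Data.nbrs 117 [0, 21, 3] L33Data.rules3 = true := by decide +kernel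

theorem singles_check :
    singlesOK 117 (allMasks 117 [0, 21, 3] L33Data.rules3) L33Data.singles = true := by decide +kernel

theorem recognition {H : Type*} [Group H] [Finite H] [IsSimpleGroup SL(3, ZMod 3)]
    (f : {h : H // h ≠ 1} ≃ {g : SL(3, ZMod 3) // g ≠ 1})
    (hf : ∀ x y : {h : H // h ≠ 1},
      (x : H) * y = y * x ↔ (f x : SL(3, ZMod 3)) * f y = f y * f x) :
    Nonempty (H ≃* SL(3, ZMod 3)) := by
  have hcard : Nat.card SL(3, ZMod 3) = 5616 := by
    rw [GL.card_SL_prod, ZMod.card]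
    decide
  have hA : Nat.card (autAdj L33Data.nbrs 117) ≤ 117 * (12 * 8) :=
    card_autAdj_le (by decide +kernel) (0 : Fin 117) (21 : Fin 117) (3 : Fin 117) (by decide +kernel)
      (by decide +kernel) (rules := L33Data.rules2) rules2_check 6 8 (by decide +kernel)
      (by decide +kernel) (rules' := L33Data.rules3) rules3_check
      (singles := L33Data.singles) singles_check
  have hgi : ∀ q ∈ codes, ∃ g : SL(3, ZMod 3), enc g = q.1 ∧ enc g⁻¹ = q.2 := by
    intro q hq
    rw [← map_enc_gens] at hq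
    obtain ⟨g, hg, rfl⟩ := List.mem_map.1 hq
    exact ⟨g, rfl, inv_gens g hg⟩
  have hz : enc (c8 ^ 4) = L33Data.cls.getD 0 0 := by rw [enc_pow]; decide +kernel
  refine mulEquiv_of_cert f hf enc enc_injective mul3 enc_mul allCodes enc_mem c8 (n := 117) (k := 48)
    (by rw [hcard]) (by rw [hcard]) (by norm_num) ⟨?_, ?_⟩ ?_ ?_ gens closure_gens L33Data.cls
    (by decide +kernel) (by decide +kernel)
    (class_of_steps enc_mul hgi steps_check hz) ?_ ?_ (nb := L33Data.nbrs) adj_check
    (by rw [hcard]; omega)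
  · exact enc_injective (by rw [enc_pow, enc_one]; decide +kernel)
  · intro h
    have h' := congrArg enc h
    rw [enc_pow, enc_one] at h'
    revert h'
    decide +kernel
  · intro j hj
    rw [enc_pow]
    exact of_decide_eq_true (List.all_eq_true.1 cent_bound j hj)
  · rw [enc_c8]; exact cent_self
  · rw [hz]
    decide +kernel
  · intro g hg l hl
    have h : (enc g, enc (g * g)) ∈ codes := mem_codes hg
    rw [inv_gens g hg]
    exact List.contains_iff_mem.1 (List.all_eq_true.1 (List.all_eq_true.1 closed_check _ h) l hl)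

end Cfsg.Agent.CommGraph.L33
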