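import Cfsg.Agent.Lib.CommGraph.M11Codes

/-!
# `M₁₁`: the commuting graph on involutions
-/

set_option autoImplicit false

open Cfsg Cfsg.Agent.Mathieu

namespace Cfsg.Agent.CommGraph.M11

theorem adj_check' : ((List.range 165).all fun i => (List.range 165).all fun j =>
    decide (j ∈ M11Data.nbrs.getD i []) == (i != j &&
      commP (M11Data.cls.getD i 0) (M11Data.cls.getD j 0))) = true := by decide +kernel

theorem adj_check : ((List.range 165).all fun i => (List.range 165).all fun j =>
    decide (j ∈ M11Data.nbrs.getD i []) == (i != j &&
      packMul 24 (M11Data.cls.getD i 0) (M11Data.cls.getD j 0) ==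
        packMul 24 (M11Data.cls.getD j 0) (M11Data.cls.getD i 0))) = true := by
  simp only [packMul_beq]
  exact adj_check'

theorem rules2_check : rulesOK M11Data.nbrs 165 [0, 12] M11Data.rules2 = true := by decide +kernel

theorem rules3_check : rulesOK M11Data.nbrs 165 [0, 12, 10] M11Data.rules3 = true := by decide +kernel

theorem singles_check :
    singlesOK 165 (allMasks 165 [0, 12, 10] M11Data.rules3) M11Data.singles = true := by decide +kernel

end Cfsg.Agent.CommGraph.M11
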