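import Cfsg.Agent.Lib.CommGraph.M11Cent
import Cfsg.Agent.Lib.CommGraph.M11Adj
import Cfsg.Agent.Lib.Mathieu.Simple

/-!
# `M₁₁`: recognition by the commuting graph
-/

set_option autoImplicit false

open Cfsg Cfsg.Agent.Mathieu

namespace Cfsg.Agent.CommGraph.M11

/-- The codes of the generators and of their inverses. -/
def codes : List (ℕ × ℕ) :=
  [(0x13110e0a0f100b020517040914151201070816030c060d00, 0xe050a0b170916121315010311140c0607020f0d04100800),
    (0xf150e141102171216050610130b0d030a0c070904010800, 0x110f16140b10130c171509060a070401050d0e0308120200)]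

theorem gens_check : (gens11.all fun l => permOK 24 l) = true := by decide +kernel

theorem exists_gen {l : ℕ} (hl : l ∈ gens11) (hn : norm24 l = l) :
    ∃ g : Spor.M11, enc g = l ∧ Rep ptEnc (g : Equiv.Perm GolayPt) l := by
  obtain ⟨σ, hσ⟩ := exists_rep (e := ptEnc) (List.all_eq_true.1 gens_check l hl)
  have hm : σ ∈ Spor.M11 := M11_cert.1 ▸ Subgroup.subset_closure ⟨l, hl, hσ⟩
  exact ⟨⟨σ, hm⟩, by rw [enc_eq_of_rep (g := ⟨σ, hm⟩) hσ, hn], hσ⟩

theorem closed_check : (codes.all fun q => M11Data.cls.all fun l =>
    M11Data.cls.contains (packMul 24 (packMul 24 q.1 l) q.2)) = true := by decide +kernel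

theorem steps_check : stepsOK (packMul 24) codes M11Data.cls M11Data.steps = true := by decide +kernel

theorem recognition {H : Type*} [Group H] [Finite H]
    (f : {h : H // h ≠ 1} ≃ {g : Spor.M11 // g ≠ 1})
    (hf : ∀ x y : {h : H // h ≠ 1}, (x : H) * y = y * x ↔ (f x : Spor.M11) * f y = f y * f x) :
    Nonempty (H ≃* Spor.M11) := by
  have := isSimple_M11
  have hA : Nat.card (autAdj M11Data.nbrs 165) ≤ 165 * (12 * 4) :=
    card_autAdj_le (by decide +kernel) (0 : Fin 165) (12 : Fin 165) (10 : Fin 165) (by decide +kernel)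
      (by decide +kernel) (rules := M11Data.rules2) rules2_check 9 4 (by decide +kernel)
      (by decide +kernel) (rules' := M11Data.rules3) rules3_check
      (singles := M11Data.singles) singles_check
  obtain ⟨a, ha, har⟩ := exists_gen (l := 0x13110e0a0f100b020517040914151201070816030c060d00)
    (List.mem_cons_self ..) (by decide +kernel)
  obtain ⟨b, hb, hbr⟩ := exists_gen (l := 0xf150e141102171216050610130b0d030a0c070904010800)
    (List.mem_cons_of_mem _ (List.mem_cons_self ..)) (by decide +kernel)
  have hinv : ∀ g : Spor.M11, ∀ v, enc g = v →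
      packMul 24 v (packPow 24 v 10) = packId 24 → enc g⁻¹ = packPow 24 v 10 := by
    intro g v hv h
    rw [← hv] at h ⊢
    have hp : ∀ m, enc (g ^ m) = packPow 24 (enc g) m := fun m => by
      induction m with
      | zero => rw [pow_zero, enc_one]; rfl
      | succ m ih => rw [pow_succ', enc_mul, ih]; rfl
    rw [← hp] at h ⊢
    rw [← enc_mul, ← enc_one] at h
    rw [inv_eq_of_mul_eq_one_right (enc_injective h)]
  have hgen : Subgroup.closure {g : Spor.M11 | g ∈ [a, b]} = ⊤ := by
    refine Subgroup.map_injective Spor.M11.subtype_injective ?_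
    rw [MonoidHom.map_closure, ← MonoidHom.range_eq_map, Subgroup.range_subtype]
    conv_rhs => rw [← M11_cert.1]
    refine congrArg Subgroup.closure (Set.ext fun σ => ?_)
    simp only [Set.mem_image, Set.mem_ofPred_eq, List.mem_cons, List.not_mem_nil, or_false, gens11]
    constructor
    · rintro ⟨g, rfl | rfl, rfl⟩
      exacts [⟨_, Or.inl rfl, har⟩, ⟨_, Or.inr rfl, hbr⟩]
    · rintro ⟨l, rfl | rfl, hσ⟩
      exacts [⟨a, Or.inl rfl, har.unique hσ⟩, ⟨b, Or.inr rfl, hbr.unique hσ⟩]
  have hia := hinv a _ ha (by decide +kernel)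
  have hib := hinv b _ hb (by decide +kernel)
  have hcodes : ∀ q ∈ codes, ∃ g : Spor.M11, enc g = q.1 ∧ enc g⁻¹ = q.2 := by
    intro q hq
    simp only [codes, List.mem_cons, List.not_mem_nil, or_false] at hq
    rcases hq with rfl | rfl
    · exact ⟨a, ha, hia.trans (by decide +kernel)⟩
    · exact ⟨b, hb, hib.trans (by decide +kernel)⟩
  set c := a * a * a * b with hc
  have hec : enc c = C8 := by
    rw [hc, enc_mul, enc_mul, enc_mul, ha, hb]
    decide +kernel
  have hp : ∀ m, enc (c ^ m) = packPow 24 C8 m := by
    intro m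
    induction m with
    | zero => rw [pow_zero, enc_one]; rfl
    | succ m ih => rw [pow_succ', enc_mul, ih, hec]; rfl
  have hz : enc (c ^ 4) = M11Data.cls.getD 0 0 := by rw [hp]; decide +kernel
  refine mulEquiv_of_cert f hf enc enc_injective (packMul 24) enc_mul allCodes enc_mem c
    (n := 165) (k := 48) (by rw [card_M11]) (by rw [card_M11]) (by norm_num) ⟨?_, ?_⟩ ?_ ?_ [a, b]
    hgen M11Data.cls (by decide +kernel) (by decide +kernel)
    (class_of_steps enc_mul hcodes steps_check hz) ?_ ?_ (nb := M11Data.nbrs) adj_check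
    (by rw [card_M11]; omega)
  · exact enc_injective (by rw [hp, enc_one]; decide +kernel)
  · intro h
    have h' := congrArg enc h
    rw [hp, enc_one] at h'
    revert h'
    decide +kernel
  · intro j hj
    rw [hp]
    exact of_decide_eq_true (List.all_eq_true.1 cent_bound j hj)
  · rw [hec]; exact cent_self
  · rw [hz]
    decide +kernel
  · intro g hg l hl
    have hq : ∀ q ∈ codes, packMul 24 (packMul 24 q.1 l) q.2 ∈ M11Data.cls := fun q hq =>
      List.contains_iff_mem.1 (List.all_eq_true.1 (List.all_eq_true.1 closed_check q hq) l hl)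
    simp only [List.mem_cons, List.not_mem_nil, or_false] at hg
    rcases hg with rfl | rfl
    · have h := hq _ (List.mem_cons_self ..)
      rw [ha, hia.trans (by decide +kernel : _ = 0xe050a0b170916121315010311140c0607020f0d04100800)]
      exact h
    · have h := hq _ (List.mem_cons_of_mem _ (List.mem_cons_self ..))
      rw [hb, hib.trans (by decide +kernel : _ = 0x110f16140b10130c171509060a070401050d0e0308120200)]
      exact h

end Cfsg.Agent.CommGraph.M11
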