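import Cfsg.Agent.Lib.CommGraph.M11Codes

/-!
# `M₁₁`: centraliser bounds of powers of an element of order eight
-/

set_option autoImplicit false

open Cfsg Cfsg.Agent.Mathieu

namespace Cfsg.Agent.CommGraph.M11

/-- The code of the chosen element of order eight. -/
def C8 : ℕ := 418664258254722931875820411166433829858802370159086601216

theorem cent_bound' : ([1, 2, 3, 5, 6, 7].all fun j =>
    decide ((allCodes.filter fun r => commP (packPow 24 C8 j) r).length < 48)) = true := by
  decide +kernel

theorem cent_bound : ([1, 2, 3, 5, 6, 7].all fun j =>
    decide ((allCodes.filter fun r => packMul 24 (packPow 24 C8 j) r ==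
      packMul 24 r (packPow 24 C8 j)).length < 48)) = true := by
  simp only [packMul_beq]
  exact cent_bound'

theorem cent_self' : (allCodes.filter fun r => commP C8 r).length ≤ 8 := by decide +kernel

theorem cent_self : (allCodes.filter fun r =>
    packMul 24 C8 r == packMul 24 r C8).length ≤ 8 := by
  simp only [packMul_beq]
  exact cent_self'

end Cfsg.Agent.CommGraph.M11
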