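import Cfsg.Agent.Lib.CommGraph.Recognition
import Cfsg.Agent.Lib.CommGraph.M11Data
import Cfsg.Agent.Lib.Mathieu.Groups
import Cfsg.Agent.Lib.Mathieu.Simple

/-!
# `M₁₁`: packed permutations as codes
-/

set_option autoImplicit false

open Cfsg Cfsg.Agent.Mathieu

namespace Cfsg.Agent.CommGraph.M11

/-- The packed form of a permutation, normalised. -/
def norm24 (r : ℕ) : ℕ := (List.range 24).foldr (fun i acc => app r i + 256 * acc) 0

/-- The code of an element of `M₁₁`. -/
def enc (g : Spor.M11) : ℕ :=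
  (List.range 24).foldr (fun i acc => (ptEnc ((g : Equiv.Perm GolayPt) (idx ptEnc i))).val + 256 * acc) 0

theorem rep_enc (g : Spor.M11) : Rep ptEnc (g : Equiv.Perm GolayPt) (enc g) := by
  intro x
  rw [enc, app_packMul_aux (fun i => (ptEnc ((g : Equiv.Perm GolayPt) (idx ptEnc i))).val) _
    (fun i _ => lt_trans (Fin.isLt _) (by norm_num)) _ (by simp)]
  simp [idx_self]

theorem enc_eq_of_rep {g : Spor.M11} {r : ℕ} (h : Rep ptEnc (g : Equiv.Perm GolayPt) r) :
    enc g = norm24 r := by
  refine List.foldr_ext _ _ _ fun i hi acc => ?_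
  rw [List.mem_range] at hi
  rw [h.apply_idx hi, idx_val (h.app_lt hi)]

theorem enc_injective : Function.Injective enc := fun g g' h => by
  have h1 := rep_enc g
  rw [h] at h1
  exact Subtype.ext (h1.unique (rep_enc g'))

theorem enc_mul (a b : Spor.M11) : enc (a * b) = packMul 24 (enc a) (enc b) := by
  refine List.foldr_ext _ _ _ fun i hi acc => ?_
  rw [List.mem_range] at hi
  rw [← idx_val (e := ptEnc) hi, idx_self, idx_val hi]
  have h1 := (rep_enc b).apply_idx (i := i) hi
  change (ptEnc ((a : Equiv.Perm GolayPt) ((b : Equiv.Perm GolayPt) (idx ptEnc i)))).val + _ = _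
  rw [h1, (rep_enc a).apply_idx ((rep_enc b).app_lt hi), idx_val ((rep_enc a).app_lt ((rep_enc b).app_lt hi))]

theorem enc_one : enc 1 = packId 24 := by
  refine List.foldr_ext _ _ _ fun i hi acc => ?_
  rw [List.mem_range] at hi
  change (ptEnc (idx ptEnc i)).val + _ = _
  rw [idx_val hi, Nat.mod_eq_of_lt (by omega)]

/-- All codes. -/
def allCodes : List ℕ := prodList 24 levels11

theorem norm_check : allCodes.all (fun r => norm24 r == r) = true := by decide +kernel

theorem enc_mem (x : Spor.M11) : enc x ∈ allCodes := by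
  obtain ⟨g, hg⟩ := x
  obtain ⟨hgen, -, -⟩ := M11_cert
  have hup : Upper ptEnc Spor.M11 levels11 := by
    refine upper_full _ [0] dodMask _ (by decide +kernel)
      (by simpa [idx_zero] using fun σ hσ => (mem_M11_iff.1 hσ).2) fun σ hσ => ?_
    rw [← squareDodecad_eq]; exact (mem_M12_iff.1 (mem_M11_iff.1 hσ).1).2
  have hbot : fixList Spor.M11 (levels11.map fun p => idx ptEnc p.1) = ⊥ := by
    rw [eq_bot_iff]
    intro σ hσ
    rw [mem_fixList, mem_M11_iff, mem_M12_iff] at hσ
    rw [Subgroup.mem_bot]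
    refine eq_one_of_fix_five hσ.1.1.1 (fun i hi => ?_) hσ.1.1.2
    have : i = 0 ∨ i ∈ levels11.map fun p => p.1 := by revert i; decide +kernel
    rcases this with rfl | h
    · rw [idx_zero]; exact hσ.1.2
    · obtain ⟨p, hp, rfl⟩ := List.mem_map.1 h
      exact hσ.2 _ (List.mem_map.2 ⟨p, hp, rfl⟩)
  have hreps : ∀ t ∈ allReps levels11, ∃ σ ∈ Spor.M11, Rep ptEnc σ t := by
    intro t ht
    obtain ⟨σ, hσ, h⟩ := reps_genGroup (e := ptEnc) (gens := gens11) (steps := slp11)
      (levels := levels11) (by decide +kernel) (by decide +kernel) (by decide +kernel) t ht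
    exact ⟨σ, hgen ▸ hσ, h⟩
  obtain ⟨r, hr, hrr⟩ := exists_mem_prodList_aux (H := Spor.M11) (e := ptEnc) (by norm_num)
    levels11 [] Spor.M11 (by simp) (fun _ h _ => h) (by decide +kernel) hreps hup hbot g hg
  rw [enc_eq_of_rep (g := ⟨g, hg⟩) hrr, beq_iff_eq.1 (List.all_eq_true.1 norm_check r hr)]
  exact hr

/-- Commutation of packed permutations, point by point. -/
def commP (a b : ℕ) : Bool := (List.range 24).all fun i => app a (app b i) == app b (app a i)

theorem packMul_beq (a b : ℕ) : (packMul 24 a b == packMul 24 b a) = commP a b := by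
  apply Bool.eq_iff_iff.2
  rw [beq_iff_eq, commP, List.all_eq_true]
  constructor
  · intro h i hi
    rw [beq_iff_eq]
    rw [List.mem_range] at hi
    have e : ∀ x y : ℕ, app (packMul 24 x y) i = app x (app y i) := fun x y => by
      rw [packMul, app_packMul_aux (fun j => app x (app y j)) _
        (fun j _ => Nat.mod_lt _ (by norm_num)) _ (by simpa using hi)]
      simp
    rw [← e, h, e]
  · intro h
    refine List.foldr_ext _ _ _ fun i hi acc => ?_
    rw [beq_iff_eq.1 (h i hi)]

end Cfsg.Agent.CommGraph.M11
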