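import Cfsg.Agent.Lib.CommGraph.AutBound

/-!
# Recognition of a simple group by its commuting graph

`H` and `G` act by conjugation on the class that is singled out by the size of its centralisers; both
embed into the automorphism group of that graph, so a bound `2 |G|` on the latter gives `H ≃* G`.
A second part checks the hypotheses for a coded group by enumeration.
-/

set_option autoImplicit false

namespace Cfsg.Agent.CommGraph

/-- The elements commuting with `x`. -/
noncomputable def centCard {K : Type*} [Group K] (x : K) : ℕ := Nat.card {y : K // Commute x y}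

theorem centCard_conj {K : Type*} [Group K] (g x : K) : centCard (g * x * g⁻¹) = centCard x :=
  (Nat.card_congr (Equiv.subtypeEquiv (MulAut.conj g).toEquiv fun y => by
    change Commute x y ↔ Commute (g * x * g⁻¹) (g * y * g⁻¹)
    exact (SemiconjBy.conj_iff).symm)).symm

/-- A group with a conjugation invariant set `P` numbered as the vertices of a graph embeds into
its automorphism group if only `1` centralises `P`. -/
theorem exists_hom_autAdj {K : Type*} [Group K] {nb : List (List ℕ)} {n : ℕ} (P : K → Prop)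
    (hP : ∀ g x, P x → P (g * x * g⁻¹)) (e : {x // P x} ≃ Fin n)
    (hadj : ∀ a b : {x // P x}, (a ≠ b ∧ Commute (a : K) b) ↔ Adj nb (e a) (e b))
    (hfaith : ∀ g : K, (∀ x, P x → Commute g x) → g = 1) :
    ∃ φ : K →* autAdj nb n, Function.Injective φ := by
  let perm : K → Equiv.Perm {x // P x} := fun g =>
    (MulAut.conj g).toEquiv.subtypeEquiv fun x => ⟨fun hx => hP g x hx, fun hx => by
      have := hP g⁻¹ _ hx
      simpa [mul_assoc] using this⟩
  have hperm : ∀ g (x : {x // P x}), (perm g x : K) = g * x * g⁻¹ := fun _ _ => rfl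
  let ψ : K →* Equiv.Perm (Fin n) :=
    { toFun := fun g => e.permCongr (perm g)
      map_one' := Equiv.ext fun i => by
        rw [Equiv.permCongr_apply, Equiv.Perm.one_apply]
        exact e.symm.injective (by rw [e.symm_apply_apply]; exact Subtype.ext (by simp [hperm]))
      map_mul' := fun g h => Equiv.ext fun i => by
        simp only [Equiv.permCongr_apply, Equiv.Perm.mul_apply, e.symm_apply_apply]
        exact congrArg e (Subtype.ext (by simp [hperm, mul_assoc])) }
  refine ⟨ψ.codRestrict (autAdj nb n) fun g i j => ?_, fun g h hgh => ?_⟩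
  · change Adj nb (e.permCongr (perm g) i) (e.permCongr (perm g) j) ↔ _
    simp only [Equiv.permCongr_apply]
    have hci : ∀ a b : K, Commute (g * a * g⁻¹) (g * b * g⁻¹) ↔ Commute a b := fun _ _ =>
      SemiconjBy.conj_iff
    rw [← hadj, hperm, hperm, hci, (perm g).injective.ne_iff]
    conv_rhs => rw [← e.apply_symm_apply i, ← e.apply_symm_apply j, ← hadj]
  · refine inv_mul_eq_one.1 (hfaith _ fun x hx => ?_)
    have h1 := congrArg (fun σ : Equiv.Perm (Fin n) => e.symm (σ (e ⟨x, hx⟩))) (congrArg Subtype.val hgh)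
    change e.symm (e.permCongr (perm g) (e ⟨x, hx⟩)) = e.symm (e.permCongr (perm h) (e ⟨x, hx⟩)) at h1
    simp only [Equiv.permCongr_apply, e.symm_apply_apply] at h1
    have h2 := congrArg Subtype.val h1
    rw [hperm, hperm] at h2
    change g⁻¹ * h * x = x * (g⁻¹ * h)
    calc g⁻¹ * h * x = g⁻¹ * (h * x * h⁻¹) * h := by group
      _ = x * (g⁻¹ * h) := by rw [← h2]; group

/-- The main recognition step. -/
theorem mulEquiv_of_graph {H G : Type*} [Group H] [Finite H] [Group G] [Finite G] [IsSimpleGroup G]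
    (hnc : ∃ a b : G, ¬ Commute a b) (f : {h : H // h ≠ 1} ≃ {g : G // g ≠ 1})
    (hf : ∀ x y : {h : H // h ≠ 1}, (x : H) * y = y * x ↔ (f x : G) * f y = f y * f x)
    (z : G) (hz : z ≠ 1) (k : ℕ) (hS : ∀ g : G, g ≠ 1 → (centCard g = k ↔ IsConj z g))
    {nb : List (List ℕ)} {n : ℕ} (e : {g : G // IsConj z g} ≃ Fin n)
    (hadj : ∀ a b : {g : G // IsConj z g}, (a ≠ b ∧ Commute (a : G) b) ↔ Adj nb (e a) (e b))
    (hA : Nat.card (autAdj nb n) ≤ 2 * Nat.card G) : Nonempty (H ≃* G) := by
  classical
  -- the extension of `f`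
  let F : H ≃ G :=
    { toFun := fun x => if hx : x = 1 then 1 else f ⟨x, hx⟩
      invFun := fun g => if hg : g = 1 then 1 else f.symm ⟨g, hg⟩
      left_inv := fun x => by
        by_cases hx : x = 1
        · simp [hx]
        · simp [hx, (f ⟨x, hx⟩).2]
      right_inv := fun g => by
        by_cases hg : g = 1
        · simp [hg]
        · simp [hg, (f.symm ⟨g, hg⟩).2] }
  have hF1 : F 1 = 1 := dif_pos rfl
  have hFc : ∀ x y, Commute (F x) (F y) ↔ Commute x y := by
    intro x y
    by_cases hx : x = 1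
    · subst hx; simp [hF1, Commute.one_left]
    by_cases hy : y = 1
    · subst hy; simp [hF1, Commute.one_right]
    rw [show F x = f ⟨x, hx⟩ from dif_neg hx, show F y = f ⟨y, hy⟩ from dif_neg hy]
    exact (hf ⟨x, hx⟩ ⟨y, hy⟩).symm
  have hcc : ∀ x, centCard (F x) = centCard x := fun x =>
    (Nat.card_congr (Equiv.subtypeEquiv F fun y => (hFc x y).symm)).symm
  have hz1 : ∀ g, IsConj z g → g ≠ 1 := fun g hg h => hz (isConj_one_left.1 (h ▸ hg))
  have hkey : ∀ x : H, IsConj z (F x) ↔ x ≠ 1 ∧ centCard x = k := by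
    intro x
    constructor
    · intro hx
      refine ⟨fun h => hz1 _ hx (by rw [h, hF1]), ?_⟩
      rw [← hcc]
      exact (hS _ (hz1 _ hx)).2 hx
    · rintro ⟨hx1, hxk⟩
      have : F x ≠ 1 := fun h => hx1 (F.injective (h.trans hF1.symm))
      exact (hS _ this).1 (hcc x ▸ hxk)
  -- only `1` centralises the class
  have hfG : ∀ g : G, (∀ x, IsConj z x → Commute g x) → g = 1 := by
    intro g hg
    have hle : Subgroup.normalClosure ({z} : Set G) ≤ Subgroup.centralizer ({g} : Set G) := by
      refine Subgroup.closure_le _ |>.2 fun x hx => ?_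
      obtain ⟨a, ha, hax⟩ := Group.mem_conjugatesOfSet_iff.1 hx
      rw [Set.mem_singleton_iff] at ha
      exact Subgroup.mem_centralizer_singleton_iff.2 (hg x (ha ▸ hax)).eq.symm
    rcases (Subgroup.normalClosure_normal (s := ({z} : Set G))).eq_bot_or_eq_top with h | h
    · exact absurd (Subgroup.mem_bot.1 (h ▸ Subgroup.subset_normalClosure (Set.mem_singleton z))) hz
    · have hc : g ∈ Subgroup.center G := Subgroup.mem_center_iff.2 fun y =>
        Subgroup.mem_centralizer_singleton_iff.1 (hle (h ▸ Subgroup.mem_top y))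
      rcases (inferInstance : (Subgroup.center G).Normal).eq_bot_or_eq_top with h' | h'
      · exact Subgroup.mem_bot.1 (h' ▸ hc)
      · obtain ⟨a, b, hab⟩ := hnc
        exact absurd (Subgroup.mem_center_iff.1 (h' ▸ Subgroup.mem_top b) a) hab
  have hfH : ∀ x : H, (∀ y, IsConj z (F y) → Commute x y) → x = 1 := by
    intro x hx
    refine F.injective ((hfG _ fun y hy => ?_).trans hF1.symm)
    rw [← F.apply_symm_apply y, hFc]
    exact hx _ (by rwa [F.apply_symm_apply])
  obtain ⟨φG, hφG⟩ := exists_hom_autAdj (IsConj z) (fun g x hx => hx.trans (isConj_iff.2 ⟨g, rfl⟩)) e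
    hadj hfG
  obtain ⟨φH, hφH⟩ := exists_hom_autAdj (fun x : H => IsConj z (F x))
    (fun g x hx => by
      rw [hkey] at hx ⊢
      exact ⟨fun h => hx.1 (conj_eq_one_iff.1 h), (centCard_conj g x).trans hx.2⟩)
    ((F.subtypeEquiv fun _ => Iff.rfl).trans e)
    (fun a b => by
      rw [Equiv.trans_apply, Equiv.trans_apply, ← hadj, (F.subtypeEquiv _).injective.ne_iff,
        Equiv.subtypeEquiv_apply, Equiv.subtypeEquiv_apply]
      exact and_congr_right fun _ => (hFc _ _).symm)
    hfH
  -- two subgroups of index at most two in the automorphism group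
  have hcard : Nat.card H = Nat.card G := Nat.card_congr F
  set G0 := φG.range
  set H0 := φH.range
  let eG : G ≃* G0 := MonoidHom.ofInjective hφG
  let eH : H ≃* H0 := MonoidHom.ofInjective hφH
  have hG0 : Nat.card G0 = Nat.card G := (Nat.card_congr eG.toEquiv).symm
  have hH0 : Nat.card H0 = Nat.card G := by rw [← hcard]; exact (Nat.card_congr eH.toEquiv).symm
  have hidx : H0.index ≤ 2 := by
    have h := Subgroup.index_mul_card H0
    rw [hH0] at h
    exact Nat.le_of_mul_le_mul_right (h ▸ hA) Nat.card_pos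
  have hnorm : H0.Normal := by
    have h0 : H0.index ≠ 0 := Subgroup.index_ne_zero_of_finite
    rcases (show H0.index = 1 ∨ H0.index = 2 by omega) with h | h
    · rw [Subgroup.index_eq_one.1 h]; infer_instance
    · exact Subgroup.normal_of_index_eq_two h
  have hsimple : IsSimpleGroup G0 := by
    have : Nontrivial G0 := eG.toEquiv.symm.nontrivial
    exact IsSimpleGroup.isSimpleGroup_of_surjective eG.toMonoidHom eG.surjective
  rcases (Subgroup.Normal.subgroupOf hnorm G0).eq_bot_or_eq_top with h | h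
  · exfalso
    have h1 : H0.relIndex G0 = Nat.card G0 := by
      rw [Subgroup.relIndex, h, Subgroup.index_bot]
    have h2 : H0.relIndex G0 ∣ H0.index := Subgroup.relIndex_dvd_index_of_normal H0 G0
    have hle := Nat.le_of_dvd (Nat.pos_of_ne_zero Subgroup.index_ne_zero_of_finite) h2
    obtain ⟨a, b, hab⟩ := hnc
    have h3 : Nat.card G ≤ 2 := by omega
    refine hab ?_
    have : Nat.card G = 1 ∨ Nat.card G = 2 := by
      have := Nat.card_pos (α := G); omega
    rcases this with h | h
    · have := (Nat.card_eq_one_iff_unique.1 h).1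
      exact (Subsingleton.elim a b) ▸ Commute.refl a
    · have : Fact (Nat.Prime 2) := ⟨Nat.prime_two⟩
      have := isCyclic_of_prime_card h
      exact (IsCyclic.commutative : IsMulCommutative G).is_comm.comm a b
  · rw [Subgroup.subgroupOf_eq_top] at h
    have heq : G0 = H0 := Subgroup.eq_of_le_of_card_ge h (hH0.trans hG0.symm).le
    exact ⟨eH.trans ((MulEquiv.subgroupCongr heq.symm).trans eG.symm)⟩

/-- Recognition from an enumeration: `enc` codes `G`, `R` lists the codes, `L` the class of
`z = c ^ 4`, `c` of order `8` and self-centralising, `16` the 2-part of `|G|`. -/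
theorem mulEquiv_of_cert {H G : Type*} [Group H] [Finite H] [Group G] [Finite G] [IsSimpleGroup G]
    (f : {h : H // h ≠ 1} ≃ {g : G // g ≠ 1})
    (hf : ∀ x y : {h : H // h ≠ 1}, (x : H) * y = y * x ↔ (f x : G) * f y = f y * f x)
    (enc : G → ℕ) (henc : Function.Injective enc) (mul' : ℕ → ℕ → ℕ)
    (hmul : ∀ a b, enc (a * b) = mul' (enc a) (enc b)) (R : List ℕ) (hR : ∀ g, enc g ∈ R)
    (c : G) (h2 : Nat.card G % 32 = 16) {n k : ℕ} (hk : Nat.card G = n * k) (h16 : 16 ∣ k)
    (hpow : (c ^ 8 = 1) ∧ c ^ 4 ≠ 1)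
    (hcent : ∀ j ∈ [1, 2, 3, 5, 6, 7],
      (R.filter fun r => mul' (enc (c ^ j)) r == mul' r (enc (c ^ j))).length < k)
    (hself : (R.filter fun r => mul' (enc c) r == mul' r (enc c)).length ≤ 8)
    (gens : List G) (hgen : Subgroup.closure {g | g ∈ gens} = ⊤) (L : List ℕ) (hLn : L.length = n)
    (hnd : L.Nodup) (hclass : ∀ l ∈ L, ∃ g, IsConj (c ^ 4) g ∧ enc g = l)
    (hz : enc (c ^ 4) ∈ L)
    (hclosed : ∀ g ∈ gens, ∀ l ∈ L, mul' (mul' (enc g) l) (enc g⁻¹) ∈ L)
    {nb : List (List ℕ)}
    (hadj : ((List.range n).all fun i => (List.range n).all fun j =>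
      decide (j ∈ nb.getD i []) ==
        (i != j && mul' (L.getD i 0) (L.getD j 0) == mul' (L.getD j 0) (L.getD i 0))) = true)
    (hA : Nat.card (autAdj nb n) ≤ 2 * Nat.card G) : Nonempty (H ≃* G) := by
  classical
  set z := c ^ 4 with hzdef
  have hcomm : ∀ a b : G, Commute a b ↔ mul' (enc a) (enc b) = mul' (enc b) (enc a) := fun a b => by
    rw [← hmul, ← hmul, henc.eq_iff]; rfl
  have hbound : ∀ x : G, centCard x ≤
      (R.filter fun r => mul' (enc x) r == mul' r (enc x)).length := by
    intro x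
    refine le_trans ?_ (List.toFinset_card_le _)
    rw [centCard, ← Nat.card_eq_finsetCard]
    exact Nat.card_le_card_of_injective
      (fun y => ⟨enc y.1, by simpa [hR] using (hcomm x y.1).1 y.2⟩)
      fun a b h => Subtype.ext (henc (congrArg Subtype.val h))
  have hclosedG : ∀ g x : G, enc x ∈ L → enc (g * x * g⁻¹) ∈ L := by
    intro g
    have hg : g ∈ Subgroup.closure {g | g ∈ gens} := hgen ▸ Subgroup.mem_top g
    induction hg using Subgroup.closure_induction_left with
    | one => intro x hx; simpa using hx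
    | mul_left y hy t _ ih =>
      intro x hx
      rw [show y * t * x * (y * t)⁻¹ = y * (t * x * t⁻¹) * y⁻¹ by group, hmul, hmul]
      exact hclosed y hy _ (ih x hx)
    | inv_mul_cancel y hy t _ ih =>
      intro x hx
      -- conjugation by `y` permutes the finite set `L`
      let T := {w : G // enc w ∈ L}
      have hinj : Function.Injective (fun w : T => (⟨y * w.1 * y⁻¹, by
          rw [hmul, hmul]; exact hclosed y hy _ w.2⟩ : T)) := fun a b h => Subtype.ext (by
        simpa using congrArg Subtype.val h)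
      obtain ⟨w, hw⟩ := (Finite.injective_iff_surjective.1 hinj) ⟨_, ih x hx⟩
      have hw' : y * w.1 * y⁻¹ = t * x * t⁻¹ := congrArg Subtype.val hw
      rw [show y⁻¹ * t * x * (y⁻¹ * t)⁻¹ = y⁻¹ * (t * x * t⁻¹) * y by group, ← hw',
        show y⁻¹ * (y * w.1 * y⁻¹) * y = w.1 by group]
      exact w.2
  have hmem : ∀ g, IsConj z g ↔ enc g ∈ L := by
    intro g
    constructor
    · intro h
      obtain ⟨y, rfl⟩ := isConj_iff.1 h
      exact hclosedG y z hz
    · intro h
      obtain ⟨g', hg', he⟩ := hclass _ h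
      rwa [henc he] at hg'
  let e0 : {g : G // IsConj z g} ≃ {l // l ∈ L} := Equiv.ofBijective
    (fun g => ⟨enc g.1, (hmem g.1).1 g.2⟩)
    ⟨fun a b h => Subtype.ext (henc (congrArg Subtype.val h)), fun l => by
      obtain ⟨g, hg, he⟩ := hclass _ l.2
      exact ⟨⟨g, hg⟩, Subtype.ext he⟩⟩
  let e : {g : G // IsConj z g} ≃ Fin n :=
    (e0.trans (List.Nodup.getEquiv L hnd).symm).trans (finCongr hLn)
  have he : ∀ a, L.getD (e a) 0 = enc a.1 := by
    intro a
    have h := ((List.Nodup.getEquiv L hnd).apply_symm_apply (e0 a))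
    rw [List.getD_eq_getElem _ _ (by simp [hLn])]
    exact congrArg Subtype.val h
  have hzk : centCard z = k := by
    have hn : Nat.card {g : G // IsConj z g} = n := by rw [Nat.card_congr e, Nat.card_fin]
    have hn' : Nat.card (MulAction.orbit (ConjAct G) z) = n := by
      rw [← hn]
      refine Nat.card_congr (Equiv.subtypeEquivRight fun g => ?_)
      rw [ConjAct.mem_orbit_conjAct, isConj_comm]
    have h := Subgroup.index_mul_card (MulAction.stabilizer (ConjAct G) z)
    rw [MulAction.index_stabilizer, ← Nat.card_coe_set_eq, hn'] at h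
    have hstab : Nat.card (MulAction.stabilizer (ConjAct G) z) = centCard z := by
      refine Nat.card_congr (Equiv.subtypeEquiv ConjAct.ofConjAct.toEquiv fun a => ?_)
      rw [MulAction.mem_stabilizer_iff, ConjAct.smul_def, mul_inv_eq_iff_eq_mul]
      exact ⟨fun h => h.symm, fun h => Eq.symm h⟩
    rw [hstab, show Nat.card (ConjAct G) = Nat.card G from Nat.card_congr ConjAct.ofConjAct.toEquiv,
      hk] at h
    refine Nat.eq_of_mul_eq_mul_left ?_ h
    rw [← hn]
    exact Nat.card_pos_iff.2 ⟨⟨⟨z, IsConj.refl z⟩⟩, inferInstance⟩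
  refine mulEquiv_of_graph ?_ f hf z hpow.2 k (fun g hg => ⟨fun hgk => ?_, fun h => ?_⟩) e
    (fun a b => ?_) hA
  · by_contra h
    have h' : ∀ b, Commute c b := fun b => by
      by_contra hb
      exact h ⟨c, b, hb⟩
    have : centCard c = Nat.card G := Nat.card_congr (Equiv.subtypeUnivEquiv h')
    have := (hbound c).trans hself
    omega
  · -- `C(g)` contains a Sylow 2-subgroup, hence a conjugate of `c`
    have : Fact (Nat.Prime 2) := ⟨Nat.prime_two⟩
    set Cg := Subgroup.centralizer ({g} : Set G)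
    have hCg : Nat.card Cg = k := by
      rw [← hgk]
      exact Nat.card_congr (Equiv.subtypeEquivRight fun y =>
        Subgroup.mem_centralizer_singleton_iff.trans ⟨fun h => h.symm, fun h => h.symm⟩)
    obtain ⟨Q, hQ⟩ := Sylow.exists_subgroup_card_pow_prime 2 (G := Cg) (n := 4) (hCg ▸ h16)
    have hP : IsPGroup 2 (Subgroup.zpowers c) := IsPGroup.of_card (n := 3) (by
      rw [Nat.card_zpowers]
      exact orderOf_eq_prime_pow (p := 2) (n := 2) hpow.2 hpow.1)
    obtain ⟨S, hS⟩ := hP.exists_le_sylow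
    have hmapQ : IsPGroup 2 (Q.map Cg.subtype) := IsPGroup.of_card (n := 4) (by
      rw [Subgroup.card_map_of_injective Cg.subtype_injective, hQ])
    obtain ⟨S', hS'⟩ := hmapQ.exists_le_sylow
    have hS'eq : Q.map Cg.subtype = S' := by
      refine Subgroup.eq_of_le_of_card_ge hS' ?_
      rw [Sylow.card_eq_multiplicity, Subgroup.card_map_of_injective Cg.subtype_injective, hQ]
      refine Nat.pow_le_pow_right two_pos ?_
      by_contra hlt
      have h32 : 2 ^ 5 ∣ Nat.card G :=
        (Nat.pow_dvd_pow 2 (by omega)).trans (Nat.ordProj_dvd _ _)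
      norm_num at h32
      omega
    obtain ⟨y, hy⟩ := MulAction.exists_smul_eq G S S'
    have hyc : y * c * y⁻¹ ∈ Cg := by
      have : y * c * y⁻¹ ∈ (S' : Subgroup G) := by
        rw [← hy, Sylow.coe_subgroup_smul]
        exact Subgroup.mem_map.2 ⟨c, hS (Subgroup.mem_zpowers c), rfl⟩
      rw [← hS'eq] at this
      exact Subgroup.map_subtype_le Q this
    have hy' : Commute c (y⁻¹ * g * y) := by
      have := (Subgroup.mem_centralizer_singleton_iff.1 hyc)
      change c * (y⁻¹ * g * y) = y⁻¹ * g * y * c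
      calc c * (y⁻¹ * g * y) = y⁻¹ * (y * c * y⁻¹ * g) * y := by group
        _ = y⁻¹ * g * y * c := by rw [this]; group
    -- `C(c) = ⟨c⟩`
    have hsub : Subgroup.zpowers c = Subgroup.centralizer ({c} : Set G) := by
      refine Subgroup.eq_of_le_of_card_ge (Subgroup.zpowers_le.2
        (Subgroup.mem_centralizer_singleton_iff.2 rfl)) ?_
      rw [Nat.card_zpowers, orderOf_eq_prime_pow (p := 2) (n := 2) hpow.2 hpow.1]
      refine le_trans (le_of_eq ?_) ((hbound c).trans hself)
      exact Nat.card_congr (Equiv.subtypeEquivRight fun w =>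
        Subgroup.mem_centralizer_singleton_iff.trans ⟨fun h => h.symm, fun h => h.symm⟩)
    have hmem' : y⁻¹ * g * y ∈ Subgroup.zpowers c :=
      hsub ▸ Subgroup.mem_centralizer_singleton_iff.2 hy'.eq.symm
    obtain ⟨j, hj, hjg⟩ : ∃ j < 8, c ^ j = y⁻¹ * g * y := by
      obtain ⟨j, hj⟩ := (mem_powers_iff_mem_zpowers (x := c)).2 hmem'
      exact ⟨j % 8, Nat.mod_lt _ (by norm_num), by rw [← pow_eq_pow_mod j hpow.1]; exact hj⟩
    have hgj : g = y * c ^ j * y⁻¹ := by rw [hjg]; group
    have hcj : centCard (c ^ j) = k := by rw [← hgk, hgj, centCard_conj]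
    obtain rfl : j = 4 := by
      by_contra h4
      rcases Nat.eq_zero_or_pos j with rfl | h0
      · exact hg (by rw [hgj]; simp)
      · have := (hbound (c ^ j)).trans_lt (hcent j (by simp; omega))
        omega
    exact isConj_iff.2 ⟨y, hgj.symm⟩
  · obtain ⟨y, rfl⟩ := isConj_iff.1 h
    rw [centCard_conj, hzk]
  · simp only [List.all_eq_true, List.mem_range, beq_iff_eq] at hadj
    have h := hadj (e a) (e a).isLt (e b) (e b).isLt
    rw [he, he] at h
    change _ ↔ ((e b : ℕ) ∈ nb.getD (e a) [])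
    rw [hcomm, ← decide_eq_true_iff (p := ((e b : ℕ) ∈ nb.getD (e a) [])), h]
    simp [Fin.val_inj]

/-- The check that a list arises from its head by conjugation with generators. -/
def stepsOK (mul' : ℕ → ℕ → ℕ) (gs : List (ℕ × ℕ)) (L : List ℕ) (steps : List (ℕ × ℕ)) : Bool :=
  decide (L.length = steps.length + 1) && (List.range steps.length).all fun i =>
    let s := steps.getD i (0, 0)
    decide (s.1 < i + 1) && decide (s.2 < gs.length) &&
      L.getD (i + 1) 0 == mul' (mul' (gs.getD s.2 (0, 0)).1 (L.getD s.1 0)) (gs.getD s.2 (0, 0)).2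

/-- Every entry is then the code of a conjugate of the head. -/
theorem class_of_steps {G : Type*} [Group G] {enc : G → ℕ} {mul' : ℕ → ℕ → ℕ}
    (hmul : ∀ a b, enc (a * b) = mul' (enc a) (enc b)) {gs : List (ℕ × ℕ)}
    (hgs : ∀ q ∈ gs, ∃ g : G, enc g = q.1 ∧ enc g⁻¹ = q.2) {L : List ℕ} {steps : List (ℕ × ℕ)}
    (h : stepsOK mul' gs L steps = true) {z : G} (hz : enc z = L.getD 0 0) :
    ∀ l ∈ L, ∃ g, IsConj z g ∧ enc g = l := by
  simp only [stepsOK, Bool.and_eq_true, decide_eq_true_eq, List.all_eq_true, List.mem_range,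
    beq_iff_eq] at h
  obtain ⟨hlen, hst⟩ := h
  suffices hi : ∀ i < L.length, ∃ g, IsConj z g ∧ enc g = L.getD i 0 by
    intro l hl
    obtain ⟨i, hi', rfl⟩ := List.getElem_of_mem hl
    have h := hi i hi'
    rwa [List.getD_eq_getElem _ _ hi'] at h
  intro i
  induction i using Nat.strong_induction_on with
  | _ i ih =>
  intro hi
  rcases i with _ | i
  · exact ⟨z, IsConj.refl z, hz⟩
  · obtain ⟨⟨h1, h2⟩, h3⟩ := hst i (by omega)
    obtain ⟨x, hx, hxe⟩ := ih (steps.getD i (0, 0)).1 (by omega) (by omega)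
    obtain ⟨g, hg, hg'⟩ := hgs _ (by
      rw [List.getD_eq_getElem _ _ h2]; exact List.getElem_mem h2 :
        gs.getD (steps.getD i (0, 0)).2 (0, 0) ∈ gs)
    exact ⟨g * x * g⁻¹, hx.trans (isConj_iff.2 ⟨g, rfl⟩), by rw [hmul, hmul, hxe, hg, hg', h3]⟩

end Cfsg.Agent.CommGraph
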